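import Mathlib.CategoryTheory.Monoidal.Cartesian.Over
import Mathlib.CategoryTheory.Monoidal.Cartesian.Grp
import Mathlib.AlgebraicGeometry.Morphisms.ClosedImmersion
import Groth.Agent.Lib.RedSub.Basic

/-!
Group structures on subobjects stable under the group laws, and factorisations through
closed subschemes of maps out of reduced schemes.
-/

universe u v

open CategoryTheory Limits AlgebraicGeometry MonoidalCategory CartesianMonoidalCategory MonObj GrpObj

namespace GrothLib.AntiAffine

section
variable {C : Type u} [Category.{v} C] [CartesianMonoidalCategory C]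

/-- A subobject stable under the group laws is a subgroup object. -/
theorem exists_grpObj_of_factor {M H : C} [GrpObj H] (j : M ⟶ H) [Mono j]
    (hone : ∃ o : 𝟙_ C ⟶ M, o ≫ j = η[H])
    (hmul : ∃ m : M ⊗ M ⟶ M, m ≫ j = (fst M M ≫ j) * (snd M M ≫ j))
    (hinv : ∃ n : M ⟶ M, n ≫ j = j⁻¹) :
    ∃ _ : GrpObj M, IsMonHom j := by
  obtain ⟨one', ho⟩ := hone
  obtain ⟨m, hm'⟩ := hmul
  obtain ⟨n, hn⟩ := hinv
  have tm : ∀ {A B : C} (a : A ⟶ H) (b : B ⟶ H), (a ⊗ₘ b) ≫ μ[H] = (fst A B ≫ a) * (snd A B ≫ b) :=
    fun a b => by rw [Hom.mul_def, ← lift_map, lift_fst_snd, Category.id_comp]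
  have hm : m ≫ j = (j ⊗ₘ j) ≫ μ[H] := by rw [hm', tm]
  have hl : ∀ {W : C} (a b : W ⟶ M),
      lift a b ≫ m ≫ j = (a ≫ j) * (b ≫ j) := fun a b => by
    rw [hm, ← Category.assoc, lift_map, Hom.mul_def]
  let mon : MonObj M :=
    { one := one'
      mul := m
      one_mul := by
        rw [← cancel_mono j, Category.assoc, hm, ← Category.assoc, ← MonoidalCategory.tensorHom_id,
          tensorHom_comp_tensorHom, ho, Category.id_comp, MonObj.one_mul_hom]
      mul_one := by
        rw [← cancel_mono j, Category.assoc, hm, ← Category.assoc, ← MonoidalCategory.id_tensorHom,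
          tensorHom_comp_tensorHom, ho, Category.id_comp, MonObj.mul_one_hom]
      mul_assoc := by
        rw [← cancel_mono j, Category.assoc, hm, Category.assoc, Category.assoc, hm, ← Category.assoc,
          ← MonoidalCategory.tensorHom_id, tensorHom_comp_tensorHom, hm, ← Category.assoc (M ◁ m),
          ← MonoidalCategory.id_tensorHom, tensorHom_comp_tensorHom, hm, Category.id_comp]
        rw [tm, tm, tm]
        simp only [MonObj.comp_mul, associator_hom_fst_assoc, associator_hom_snd_fst_assoc,
          associator_hom_snd_snd_assoc, _root_.mul_assoc] }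
  have hj : IsMonHom j := ⟨ho, hm⟩
  let grp : GrpObj M :=
    { mon with
      inv := n
      left_inv := by
        rw [← cancel_mono j, Category.assoc]
        show lift n (𝟙 M) ≫ m ≫ j = (toUnit M ≫ one') ≫ j
        rw [hl, Category.id_comp, hn, Category.assoc, ho, ← Hom.one_def]
        exact inv_mul_cancel _
      right_inv := by
        rw [← cancel_mono j, Category.assoc]
        show lift (𝟙 M) n ≫ m ≫ j = (toUnit M ≫ one') ≫ j
        rw [hl, Category.id_comp, hn, Category.assoc, ho, ← Hom.one_def]
        exact mul_inv_cancel _ }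
  exact ⟨grp, hj⟩

end

/-- A map out of a reduced scheme factors through a closed subscheme containing the image of a
dense set. -/
theorem exists_factor_of_dense {S : Scheme.{u}} {T M H : Over S} [IsReduced T.left] (f : T ⟶ H) (j : M ⟶ H)
    [IsClosedImmersion j.left] {A : Set T.left} (hA : Dense A)
    (h : ∀ a ∈ A, f.left.base a ∈ Set.range j.left.base) : ∃ l : T ⟶ M, l ≫ j = f := by
  have hs : Set.range f.left ⊆ Set.range j.left := by
    rintro _ ⟨t, rfl⟩
    have hcl : IsClosed (f.left ⁻¹' Set.range j.left) :=
      j.left.isClosedEmbedding.isClosed_range.preimage f.left.continuous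
    exact (hcl.closure_subset_iff.mpr (fun a ha => h a ha)) (hA t)
  obtain ⟨l, hl⟩ := RedSub.exists_lift f.left j.left hs
  exact ⟨Over.homMk l (by rw [← Over.w j, reassoc_of% hl, Over.w f]), Over.OverMorphism.ext hl⟩

end GrothLib.AntiAffine
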