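import Groth.Agent.Lib.AntiAffine.RigidityMain
import Groth.Agent.Lib.GrpSchField.Field
import Mathlib.AlgebraicGeometry.Morphisms.FiniteType
import Mathlib.CategoryTheory.Monoidal.Grp

/-!
Schemes without nonconstant functions are connected, and morphisms of groups out of them are homomorphisms.
-/

universe u

open CategoryTheory Limits AlgebraicGeometry MonoidalCategory CartesianMonoidalCategory MonObj GrpObj

namespace GrothLib.AntiAffine

variable {k : Type u} [Field k]

theorem IsAntiAffine.connectedSpace {X : Over (Spec (CommRingCat.of k))} (hX : IsAntiAffine X) :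
    ConnectedSpace X.left := by
  have hne : Nonempty X.left := by
    by_contra h
    rw [not_nonempty_iff] at h
    have : Subsingleton Γ(X.left, ⊤) := by
      rw [show (⊤ : X.left.Opens) = ⊥ from TopologicalSpace.Opens.ext (Subsingleton.elim _ _)]
      infer_instance
    exact one_ne_zero (hX.injective (Subsingleton.elim _
      (((Scheme.ΓSpecIso (CommRingCat.of k)).inv ≫ X.hom.appTop).hom 0)))
  have : PreconnectedSpace X.left := by
    rw [preconnectedSpace_iff_clopen]
    intro s hs
    by_contra h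
    simp only [not_or, ← Set.nonempty_iff_ne_empty, ← Set.nonempty_compl] at h
    let U : Bool → X.left.Opens := fun b => bif b then ⟨s, hs.2⟩ else ⟨sᶜ, hs.1.isOpen_compl⟩
    have hU : ∀ b, Nonempty (U b) := fun b => by
      cases b
      · exact h.2.to_subtype
      · exact h.1.to_subtype
    let sf : ∀ b, Γ(X.left, U b) := fun b => bif b then 1 else 0
    have hcompat : TopCat.Presheaf.IsCompatible X.left.presheaf U sf := by
      intro a b
      have hbot : ∀ a b, a ≠ b → Subsingleton Γ(X.left, U a ⊓ U b) := fun a b hab => by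
        have : U a ⊓ U b = ⊥ := by
          ext z
          cases a <;> cases b <;> simp_all [U]
        rw [this]
        infer_instance
      rcases eq_or_ne a b with rfl | hab
      · rfl
      · exact @Subsingleton.elim _ (hbot a b hab) _ _
    obtain ⟨e, he, -⟩ := X.left.sheaf.existsUnique_gluing' U ⊤ (fun b => homOfLE le_top) (by
      intro z _
      refine TopologicalSpace.Opens.mem_iSup.mpr ?_
      by_cases hz : z ∈ s
      · exact ⟨true, hz⟩
      · exact ⟨false, hz⟩) sf hcompat
    obtain ⟨c, rfl⟩ := hX.surjective e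
    let ρ : ∀ b, k →+* Γ(X.left, U b) := fun b =>
      (X.left.presheaf.map (homOfLE (le_top : U b ≤ ⊤)).op).hom.comp
        ((Scheme.ΓSpecIso (CommRingCat.of k)).inv ≫ X.hom.appTop).hom
    have h1 : ρ true c = ρ true 1 := by rw [map_one]; exact he true
    have h0 : ρ false c = ρ false 0 := by rw [map_zero]; exact he false
    exact one_ne_zero (((ρ true).injective h1).symm.trans ((ρ false).injective h0))
  exact { toNonempty := hne }

/-- A morphism of groups which respects the units is a homomorphism, if the source has only constant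
functions. -/
theorem IsAntiAffine.isMonHom {H G : Over (Spec (CommRingCat.of k))} [GrpObj H] [GrpObj G]
    [LocallyOfFiniteType H.hom] [QuasiCompact H.hom]
    (hH : IsAntiAffine H) (f : H ⟶ G) (hf : η[H] ≫ f = η[G]) : IsMonHom f := by
  have := hH.connectedSpace
  have : IsLocallyNoetherian H.left := LocallyOfFiniteType.isLocallyNoetherian H.hom
  have : IsSeparated H.hom := GrothLib.GrpSchField.isSeparated H
  have : IsSeparated G.hom := GrothLib.GrpSchField.isSeparated G
  have hf1 : ∀ W : Over (Spec (CommRingCat.of k)), (1 : W ⟶ H) ≫ f = 1 := fun W => by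
    rw [Hom.one_def, Category.assoc, hf, ← Hom.one_def]
  let φ : H ⊗ H ⟶ G := ((fst H H * snd H H) ≫ f) * ((fst H H ≫ f) * (snd H H ≫ f))⁻¹
  have hpt : ∀ {W : Over (Spec (CommRingCat.of k))} (a b : W ⟶ H),
      lift a b ≫ φ = ((a * b) ≫ f) * ((a ≫ f) * (b ≫ f))⁻¹ := by
    intro W a b
    simp only [φ, MonObj.comp_mul, GrpObj.comp_inv, lift_fst_assoc, lift_snd_assoc, ← Category.assoc,
      lift_fst, lift_snd]
  have hl : ∀ {W : Over (Spec (CommRingCat.of k))} (b : W ⟶ H), lift 1 b ≫ φ = 1 := fun b => by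
    rw [hpt, _root_.one_mul, hf1, _root_.one_mul, _root_.mul_inv_cancel]
  have hr : ∀ {W : Over (Spec (CommRingCat.of k))} (a : W ⟶ H), lift a 1 ≫ φ = 1 := fun a => by
    rw [hpt, _root_.mul_one, hf1, _root_.mul_one, _root_.mul_inv_cancel]
  have hone : ∀ W : Over (Spec (CommRingCat.of k)), toUnit W ≫ η[H] = 1 := fun W => rfl
  have key := eq_snd_slice hH η[H] η[H] φ (by
    have e : (H ◁ η[H]) = lift (fst H (𝟙_ _)) 1 := by
      ext1
      · simp
      · rw [whiskerLeft_snd, lift_snd, Hom.one_def]
        congr 1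
        exact Subsingleton.elim _ _
    rw [e, hr, ← Category.assoc, comp_lift, hone, hl])
  rw [slice, hone, hl, MonObj.comp_one, ← _root_.mul_inv_cancel ((fst H H ≫ f) * (snd H H ≫ f))] at key
  refine ⟨hf, ?_⟩
  have h2 := mul_right_cancel key
  rw [Hom.mul_def, Hom.mul_def, lift_fst_snd, Category.id_comp] at h2
  rw [h2, ← CartesianMonoidalCategory.lift_map]
  simp [CartesianMonoidalCategory.lift_map, lift_fst_snd]

/-- A morphism to an affine scheme is constant. -/
theorem IsAntiAffine.eq_const {X Z : Over (Spec (CommRingCat.of k))} [QuasiCompact X.hom] [QuasiSeparated X.hom]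
    [IsAffine Z.left] (hX : IsAntiAffine X) (x₀ : 𝟙_ (Over (Spec (CommRingCat.of k))) ⟶ X) (g : X ⟶ Z) :
    g = toUnit X ≫ x₀ ≫ g := by
  have : IsAffine (𝟙_ (Over (Spec (CommRingCat.of k)))).left :=
    inferInstanceAs (IsAffine (Spec (CommRingCat.of k)))
  have h := eq_snd_comp hX x₀ ((fst X (𝟙_ _)).left ≫ g.left)
  have h' : fst X (𝟙_ _) ≫ g = snd X (𝟙_ _) ≫ x₀ ≫ g := by
    refine Over.OverMorphism.ext (h.trans ?_)
    rw [← Over.comp_left, ← Over.comp_left, ← Over.comp_left, lift_fst_assoc,
      Subsingleton.elim (toUnit (𝟙_ (Over (Spec (CommRingCat.of k))))) (𝟙 _), Category.id_comp]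
  have h2 := congrArg (lift (𝟙 X) (toUnit X) ≫ ·) h'
  simpa only [lift_fst_assoc, lift_snd_assoc, Category.id_comp] using h2

/-- A homomorphism from a group without nonconstant functions to a connected group is central. -/
theorem IsAntiAffine.central {H G : Over (Spec (CommRingCat.of k))} [GrpObj H] [GrpObj G]
    [LocallyOfFiniteType H.hom] [QuasiCompact H.hom] [LocallyOfFiniteType G.hom] [PreconnectedSpace G.left]
    (hH : IsAntiAffine H) (φ : H ⟶ G) [IsMonHom φ] {W : Over (Spec (CommRingCat.of k))} (a : W ⟶ H)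
    (b : W ⟶ G) : (a ≫ φ) * b = b * (a ≫ φ) := by
  have : IsLocallyNoetherian G.left := LocallyOfFiniteType.isLocallyNoetherian G.hom
  have : IsSeparated H.hom := GrothLib.GrpSchField.isSeparated H
  have : IsSeparated G.hom := GrothLib.GrpSchField.isSeparated G
  let c : H ⊗ G ⟶ G := (fst H G ≫ φ) * snd H G * (fst H G ≫ φ)⁻¹ * (snd H G)⁻¹
  have hpt : ∀ {W : Over (Spec (CommRingCat.of k))} (a : W ⟶ H) (b : W ⟶ G),
      lift a b ≫ c = (a ≫ φ) * b * (a ≫ φ)⁻¹ * b⁻¹ := by
    intro W a b
    simp only [c, MonObj.comp_mul, GrpObj.comp_inv, lift_fst_assoc, lift_fst, lift_snd]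
  have hl : ∀ {W : Over (Spec (CommRingCat.of k))} (b : W ⟶ G), lift (1 : W ⟶ H) b ≫ c = 1 := fun b => by
    rw [hpt, MonObj.one_comp]; simp
  have hr : ∀ {W : Over (Spec (CommRingCat.of k))} (a : W ⟶ H), lift a (1 : W ⟶ G) ≫ c = 1 := fun a => by
    rw [hpt]; simp
  have hone : ∀ W : Over (Spec (CommRingCat.of k)), toUnit W ≫ η[H] = 1 := fun W => rfl
  have key := eq_snd_slice hH η[H] η[G] c (by
    have e : (H ◁ η[G]) = lift (fst H (𝟙_ _)) 1 := by
      ext1
      · simp
      · rw [whiskerLeft_snd, lift_snd, Hom.one_def]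
        congr 1
        exact Subsingleton.elim _ _
    rw [e, hr, ← Category.assoc, comp_lift, hone, hl])
  rw [slice, hone, hl, MonObj.comp_one] at key
  have h1 : (a ≫ φ) * b * (a ≫ φ)⁻¹ * b⁻¹ = 1 := by rw [← hpt, key, MonObj.comp_one]
  rwa [mul_inv_eq_one, mul_inv_eq_iff_eq_mul] at h1

end GrothLib.AntiAffine
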