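import Groth.Agent.Lib.AntiAffine.Hom

/-!
Functions on products with schemes whose global functions are the constants.
-/

universe u

open CategoryTheory Limits AlgebraicGeometry MonoidalCategory CartesianMonoidalCategory MonObj GrpObj

namespace GrothLib.AntiAffine

variable {k : Type u} [Field k] {X Y : Over (Spec (CommRingCat.of k))}

/-- Morphisms from `X × Y` to an affine scheme factor through `Y`. -/
theorem eq_slice_affine [QuasiCompact X.hom] [QuasiSeparated X.hom] (hX : IsAntiAffine X)
    (x₀ : 𝟙_ (Over (Spec (CommRingCat.of k))) ⟶ X) {U : Scheme.{u}} [IsAffine U] (a : (X ⊗ Y).left ⟶ U) :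
    a = (snd X Y).left ≫ (slice x₀ Y).left ≫ a := by
  choose W hW hyW using fun y : Y.left => (show ∃ W : Y.left.Opens, IsAffineOpen W ∧ y ∈ W by
    obtain ⟨_, ⟨W, hW, rfl⟩, hy, -⟩ :=
      Y.left.isBasis_affineOpens.exists_subset_of_mem_open (Set.mem_univ y) isOpen_univ
    exact ⟨W, hW, hy⟩)
  let V : Y.left → (X ⊗ Y).left.Opens := fun y => (snd X Y).left ⁻¹ᵁ W y
  have hV : TopologicalSpace.IsOpenCover V := by
    rw [TopologicalSpace.IsOpenCover, eq_top_iff]
    exact fun z _ => TopologicalSpace.Opens.mem_iSup.mpr ⟨(snd X Y).left z, hyW _⟩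
  refine ((X ⊗ Y).left.openCoverOfIsOpenCover V hV).hom_ext _ _ fun y => ?_
  show (V y).ι ≫ a = (V y).ι ≫ _
  letI := algOf (hW y)
  let w := wOf (hW y)
  let m := (X ◁ w).left
  have : IsOpenImmersion m := by
    show IsOpenImmersion (X ◁ wOf (hW y)).left
    rw [← MonoidalCategory.id_tensorHom, Over.tensorHom_left]
    have : IsOpenImmersion (wOf (hW y)).left := inferInstanceAs (IsOpenImmersion (hW y).fromSpec)
    infer_instance
  have hr : Set.range (V y).ι ⊆ Set.range m := by
    rintro _ ⟨z, rfl⟩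
    show _ ∈ Set.range (X ◁ wOf (hW y)).left
    rw [← MonoidalCategory.id_tensorHom, Over.tensorHom_left, Scheme.Pullback.range_map]
    refine ⟨⟨_, rfl⟩, ?_⟩
    show _ ∈ Set.range (hW y).fromSpec
    rw [(hW y).range_fromSpec]
    exact z.2
  rw [← IsOpenImmersion.lift_fac m (V y).ι hr, Category.assoc, Category.assoc]
  congr 1
  have : IsAffine (pt (k := k) Γ(Y.left, W y)).left := inferInstanceAs (IsAffine (Spec _))
  conv_lhs => rw [eq_snd_comp hX x₀ (m ≫ a)]
  have e1 : (snd X (pt (k := k) Γ(Y.left, W y))).left ≫ w.left = m ≫ (snd X Y).left := by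
    rw [← Over.comp_left, ← Over.comp_left, whiskerLeft_snd]
  have e2 : (slice x₀ (pt (k := k) Γ(Y.left, W y))).left ≫ m = w.left ≫ (slice x₀ Y).left := by
    rw [← Over.comp_left, ← Over.comp_left, slice_whisker]
  rw [show lift (toUnit (pt (k := k) Γ(Y.left, W y)) ≫ x₀) (𝟙 _) = slice x₀ _ from rfl, reassoc_of% e2, reassoc_of% e1]

theorem appTop_injective_of_retraction {A B : Over (Spec (CommRingCat.of k))} (r : B ⟶ A) (s : A ⟶ B)
    (h : s ≫ r = 𝟙 A) : Function.Injective r.left.appTop.hom := by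
  refine Function.LeftInverse.injective (g := s.left.appTop.hom) fun x => ?_
  have : r.left.appTop ≫ s.left.appTop = 𝟙 _ := by
    rw [← Scheme.Hom.comp_appTop, ← Over.comp_left, h, Over.id_left, Scheme.Hom.id_appTop]
  exact congr($this x)

/-- If the functions on the target inject into constants, they are constants. -/
theorem IsAntiAffine.of_injective {G M : Over (Spec (CommRingCat.of k))} (hG : IsAntiAffine G) (g : G ⟶ M)
    (hinj : Function.Injective g.left.appTop.hom) : IsAntiAffine M := by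
  have he : ((Scheme.ΓSpecIso (CommRingCat.of k)).inv ≫ M.hom.appTop) ≫ g.left.appTop =
      (Scheme.ΓSpecIso (CommRingCat.of k)).inv ≫ G.hom.appTop := by
    rw [Category.assoc, ← Scheme.Hom.comp_appTop, Over.w g]
  refine Function.Bijective.of_comp_left ?_ hinj
  unfold IsAntiAffine at hG
  rw [← he] at hG
  exact hG

/-- If all functions come from a scheme without nonconstant functions, they are constants. -/
theorem IsAntiAffine.of_surjective {G M : Over (Spec (CommRingCat.of k))} (hM : IsAntiAffine M) (g : G ⟶ M)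
    (hs : Function.Surjective g.left.appTop.hom) [Nonempty G.left] : IsAntiAffine G := by
  have he : ((Scheme.ΓSpecIso (CommRingCat.of k)).inv ≫ M.hom.appTop) ≫ g.left.appTop =
      (Scheme.ΓSpecIso (CommRingCat.of k)).inv ≫ G.hom.appTop := by
    rw [Category.assoc, ← Scheme.Hom.comp_appTop, Over.w g]
  have : Nonempty ↥(⊤ : G.left.Opens) := ⟨⟨Classical.arbitrary _, trivial⟩⟩
  refine ⟨RingHom.injective _, ?_⟩
  rw [← he]
  exact hs.comp hM.surjective

/-- A morphism factoring the canonical map to the spectrum of global functions gives surjectivity. -/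
theorem appTop_surjective_of_toSpecΓ {S T : Scheme.{u}} (g : S ⟶ T) (a : T ⟶ Spec Γ(S, ⊤))
    (h : g ≫ a = S.toSpecΓ) : Function.Surjective g.appTop.hom := fun x => by
  refine ⟨a.appTop.hom ((Scheme.ΓSpecIso Γ(S, ⊤)).inv.hom x), ?_⟩
  have e : (Scheme.ΓSpecIso Γ(S, ⊤)).inv ≫ a.appTop ≫ g.appTop = 𝟙 _ := by
    rw [← Scheme.Hom.comp_appTop, h, Scheme.toSpecΓ_appTop, Iso.inv_hom_id]
  exact congr($e x)

theorem antiAffine_tensor [QuasiCompact X.hom] [QuasiSeparated X.hom] (hX : IsAntiAffine X) (hY : IsAntiAffine Y)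
    (x₀ : 𝟙_ (Over (Spec (CommRingCat.of k))) ⟶ X) : IsAntiAffine (X ⊗ Y) := by
  have := hY.connectedSpace
  have : Nonempty (X ⊗ Y).left := this.toNonempty.map (slice x₀ Y).left
  exact hY.of_surjective (snd X Y) (appTop_surjective_of_toSpecΓ _ _
    (eq_slice_affine hX x₀ (X ⊗ Y).left.toSpecΓ).symm)

end GrothLib.AntiAffine
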