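import Groth.Agent.Lib.GrpSchField.Components
import Mathlib.AlgebraicGeometry.Morphisms.Proper
import Mathlib.RingTheory.Spectrum.Prime.Topology
import Mathlib.RingTheory.Polynomial.Basic

/-!
The affinization of a universally closed scheme over a field contracts connected sets to points.
-/

universe u

open CategoryTheory AlgebraicGeometry

namespace GrothLib.AntiAffine

/-- An element of an integral algebra over a field is strongly regular. -/
theorem exists_pow_eq_pow_succ_mul {k A : Type*} [Field k] [CommRing A] [Algebra k A] {a : A}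
    (ha : IsIntegral k a) : ∃ (n : ℕ) (b : A), a ^ n = a ^ (n + 1) * b := by
  obtain ⟨p, hp, hpa⟩ := ha
  obtain ⟨q, hq, hndvd⟩ := Polynomial.exists_eq_pow_rootMultiplicity_mul_and_not_dvd p hp.ne_zero 0
  rw [map_zero, sub_zero] at hq hndvd
  have h0 : q.coeff 0 ≠ 0 := fun h => hndvd (Polynomial.X_dvd_iff.2 h)
  have hq' := q.X_mul_divX_add
  refine ⟨p.rootMultiplicity 0, Polynomial.aeval a (-(Polynomial.C (q.coeff 0)⁻¹ * q.divX)), ?_⟩
  have h1 : Polynomial.aeval a p = 0 := hpa
  rw [hq, ← hq', map_mul, map_pow, Polynomial.aeval_X, map_add, map_mul, Polynomial.aeval_X,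
    Polynomial.aeval_C] at h1
  rw [map_neg, map_mul, Polynomial.aeval_C, pow_succ]
  have h2 : algebraMap k A (q.coeff 0)⁻¹ * algebraMap k A (q.coeff 0) = 1 := by
    rw [← map_mul, inv_mul_cancel₀ h0, map_one]
  linear_combination (algebraMap k A (q.coeff 0)⁻¹) * h1 - a ^ p.rootMultiplicity 0 * h2

/-- Preconnected subsets of the spectrum of an integral algebra over a field are subsingletons. -/
theorem subsingleton_of_isPreconnected {k A : Type*} [Field k] [CommRing A] [Algebra k A]
    [Algebra.IsIntegral k A] {s : Set (PrimeSpectrum A)} (hs : _root_.IsPreconnected s) : s.Subsingleton := by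
  intro p hp q hq
  by_contra hne
  wlog hle : ∃ a, a ∈ p.asIdeal ∧ a ∉ q.asIdeal generalizing p q
  · refine this hq hp (Ne.symm hne) ?_
    by_contra h
    push_neg at h hle
    exact hne (PrimeSpectrum.ext (le_antisymm hle h))
  obtain ⟨a, hap, haq⟩ := hle
  obtain ⟨n, b, hab⟩ := exists_pow_eq_pow_succ_mul (Algebra.IsIntegral.isIntegral (R := k) a)
  have key : ∀ j, a ^ n = a ^ (n + j) * b ^ j := fun j => by
    induction j with
    | zero => simp
    | succ j ih =>
      calc a ^ n = a ^ (n + j) * b ^ j := ih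
        _ = a ^ n * a ^ j * b ^ j := by rw [pow_add]
        _ = a ^ (n + 1) * b * a ^ j * b ^ j := by rw [← hab]
        _ = a ^ (n + (j + 1)) * b ^ (j + 1) := by ring
  have hn : n ≠ 0 := by
    rintro rfl
    have : (1 : A) ∈ p.asIdeal := by
      rw [← pow_zero a, hab, zero_add, pow_one]
      exact p.asIdeal.mul_mem_right _ hap
    exact p.isPrime.ne_top ((Ideal.eq_top_iff_one _).2 this)
  have he : IsIdempotentElem (a ^ n * b ^ n) := by
    have := key n
    show a ^ n * b ^ n * (a ^ n * b ^ n) = a ^ n * b ^ n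
    calc a ^ n * b ^ n * (a ^ n * b ^ n) = a ^ (n + n) * b ^ n * b ^ n := by rw [pow_add]; ring
      _ = a ^ n * b ^ n := by rw [← this]
  have hcl : IsClopen (PrimeSpectrum.basicOpen (a ^ n * b ^ n) : Set (PrimeSpectrum A)) := by
    refine ⟨?_, PrimeSpectrum.isOpen_basicOpen⟩
    rw [PrimeSpectrum.basicOpen_eq_zeroLocus_of_isIdempotentElem _ he]
    exact PrimeSpectrum.isClosed_zeroLocus _
  have hq' : q ∈ (PrimeSpectrum.basicOpen (a ^ n * b ^ n) : Set (PrimeSpectrum A)) := fun hmem => by
    refine haq (q.isPrime.mem_of_pow_mem n ?_)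
    rw [key n, pow_add, mul_assoc]
    exact Ideal.mul_mem_left _ _ hmem
  have hsub := hs.subset_isClopen hcl ⟨q, hq, hq'⟩
  exact hsub hp (Ideal.mul_mem_right _ _ (p.asIdeal.pow_mem_of_mem hap n (Nat.pos_of_ne_zero hn)))

variable {k : Type u} [Field k]

/-- The affinization of a universally closed scheme over a field identifies the points of a connected set. -/
theorem toSpecΓ_eq_of_connected {X : Scheme.{u}} (f : X ⟶ Spec (CommRingCat.of k)) [UniversallyClosed f]
    {C : Set X} (hC : _root_.IsPreconnected C) {x y : X} (hx : x ∈ C) (hy : y ∈ C) :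
    X.toSpecΓ x = X.toSpecΓ y := by
  algebraize [((Scheme.ΓSpecIso (CommRingCat.of k)).inv ≫ f.appTop).hom]
  haveI : Algebra.IsIntegral k Γ(X, ⊤) := by
    refine ⟨fun a => ?_⟩
    exact RingHom.IsIntegral.trans _ _
      (RingHom.isIntegral_of_surjective _ (Scheme.ΓSpecIso (CommRingCat.of k)).symm.commRingCatIsoToRingEquiv.surjective)
      (isIntegral_appTop_of_universallyClosed f) a
  exact subsingleton_of_isPreconnected (k := k) (hC.image _ X.toSpecΓ.continuous.continuousOn)
    ⟨x, hx, rfl⟩ ⟨y, hy, rfl⟩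

/-- A clopen set containing one of two points with the same image in the affinization contains the other. -/
theorem mem_of_toSpecΓ_eq {X : Scheme.{u}} [CompactSpace X] {U : X.Opens} (hU : IsClosed (U : Set X)) {x y : X}
    (h : X.toSpecΓ x = X.toSpecΓ y) (hx : x ∈ U) : y ∈ U := by
  let V : X.Opens := ⟨(U : Set X)ᶜ, hU.isOpen_compl⟩
  have hUV : Disjoint U V := by
    rw [disjoint_iff]
    exact TopologicalSpace.Opens.ext (Set.inter_compl_self _)
  obtain ⟨e, he₁, he₂⟩ : ∃ e : Γ(X, ⊤), x ∈ X.basicOpen e ∧ X.basicOpen e ≤ U := by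
    have hsup : U ⊔ V = ⊤ := TopologicalSpace.Opens.ext (Set.union_compl_self _)
    obtain ⟨e, heU, heV⟩ : ∃ e : Γ(X, ⊤),
        X.presheaf.map (homOfLE le_top).op e = (1 : Γ(X, U)) ∧
        X.presheaf.map (homOfLE le_top).op e = (0 : Γ(X, V)) := by
      let F : Bool → X.Opens := fun b => bif b then U else V
      have hF : iSup F = ⊤ := by rw [iSup_bool_eq]; exact hsup
      let s : ∀ b, Γ(X, F b) := fun b => match b with
        | true => 1
        | false => 0
      have hcomp : TopCat.Presheaf.IsCompatible X.presheaf F s := by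
        intro i j
        rcases i with _ | _ <;> rcases j with _ | _
        · rfl
        · refine Subsingleton.elim (h := ?_) _ _
          rw [show F false ⊓ F true = ⊥ by rw [inf_comm]; exact hUV.eq_bot]
          infer_instance
        · refine Subsingleton.elim (h := ?_) _ _
          rw [show F true ⊓ F false = ⊥ from hUV.eq_bot]
          infer_instance
        · rfl
      obtain ⟨e, he, -⟩ := X.sheaf.existsUnique_gluing' F ⊤ (fun b => homOfLE le_top) hF.ge s hcomp
      exact ⟨e, he true, he false⟩
    refine ⟨e, ?_, fun z hz => ?_⟩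
    · have h1 : x ∈ X.basicOpen (X.presheaf.map (homOfLE (le_top : U ≤ ⊤)).op e) := by
        rw [heU, Scheme.basicOpen_one]
        exact hx
      rw [Scheme.basicOpen_res] at h1
      exact h1.2
    · by_contra hzU
      have h1 : z ∈ X.basicOpen (X.presheaf.map (homOfLE (le_top : V ≤ ⊤)).op e) := by
        rw [Scheme.basicOpen_res]
        exact ⟨hzU, hz⟩
      rw [heV, Scheme.basicOpen_zero] at h1
      exact h1
  rw [← Scheme.toSpecΓ_preimage_basicOpen] at he₁
  refine he₂ ?_
  rw [← Scheme.toSpecΓ_preimage_basicOpen]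
  show X.toSpecΓ y ∈ PrimeSpectrum.basicOpen e
  rw [← h]
  exact he₁

end GrothLib.AntiAffine
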