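import Groth.Agent.Lib.AntiAffine.Hom
import Groth.Agent.Lib.GrpdQuot.ImageGrpd
import Groth.Agent.Lib.GrpSchField.HomFlat
import Mathlib.AlgebraicGeometry.Morphisms.SchemeTheoreticallyDominant

/-!
The scheme theoretic image of a homomorphism of group schemes over a field.
-/

universe u

open CategoryTheory Limits AlgebraicGeometry MonoidalCategory CartesianMonoidalCategory MonObj GrpObj

namespace GrothLib.AntiAffine

variable {k : Type u} [Field k]

theorem dominant_whiskerLeft (A : Over (Spec (CommRingCat.of k))) {C D : Over (Spec (CommRingCat.of k))}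
    (f : C ⟶ D) [IsSchemeTheoreticallyDominant f.left] [QuasiCompact f.left] :
    IsSchemeTheoreticallyDominant (A ◁ f).left ∧ QuasiCompact (A ◁ f).left := by
  have sq := GrothLib.GrpSchField.whiskerLeft_snd_isPullback A f
  have : Flat (snd A D).left := by
    have : Flat A.hom := flat_to_field _
    show Flat (pullback.snd A.hom D.hom)
    infer_instance
  exact ⟨IsSchemeTheoreticallyDominant.of_isPullback sq.flip,
    MorphismProperty.of_isPullback sq.flip ‹QuasiCompact f.left›⟩

theorem dominant_tensor {C D C' D' : Over (Spec (CommRingCat.of k))} (f : C ⟶ D) (g : C' ⟶ D')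
    [IsSchemeTheoreticallyDominant f.left] [QuasiCompact f.left] [IsSchemeTheoreticallyDominant g.left]
    [QuasiCompact g.left] :
    IsSchemeTheoreticallyDominant (f ⊗ₘ g).left ∧ QuasiCompact (f ⊗ₘ g).left := by
  obtain ⟨h1, h1'⟩ := dominant_whiskerLeft C g
  obtain ⟨h2, h2'⟩ := dominant_whiskerLeft D' f
  have e : (f ⊗ₘ g).left = (C ◁ g).left ≫ (β_ C D').hom.left ≫ (D' ◁ f).left ≫ (β_ D' D).hom.left := by
    rw [← Over.comp_left, ← Over.comp_left, ← Over.comp_left, MonoidalCategory.tensorHom_def']
    congr 2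
    ext1 <;> simp
  rw [e]
  have : IsIso (β_ C D').hom.left := (Over.forget _).map_isIso (β_ C D').hom
  have : IsIso (β_ D' D).hom.left := (Over.forget _).map_isIso (β_ D' D).hom
  exact ⟨inferInstance, inferInstance⟩

theorem exists_factor {W T Z R : Over (Spec (CommRingCat.of k))} (w : W ⟶ T)
    [IsSchemeTheoreticallyDominant w.left] [QuasiCompact w.left] (b : T ⟶ R) (z : Z ⟶ R)
    [IsClosedImmersion z.left] (q : W ⟶ Z) (h : q ≫ z = w ≫ b) : ∃ l : T ⟶ Z, l ≫ z = b := by
  obtain ⟨l, hl⟩ := GrothLib.GrpdQuot.exists_factor_of_dominant w.left b.left z.left q.left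
    (by rw [← Over.comp_left, ← Over.comp_left, h])
  exact ⟨Over.homMk l (by rw [← Over.w z, ← Category.assoc, hl, Over.w b]), Over.OverMorphism.ext hl⟩

/-- The scheme theoretic image of a homomorphism is a subgroup scheme. -/
theorem exists_image_subgroup {G H : Over (Spec (CommRingCat.of k))} [GrpObj G] [GrpObj H]
    (f : G ⟶ H) [IsMonHom f] [QuasiCompact f.left] :
    ∃ (M : Over (Spec (CommRingCat.of k))) (_ : GrpObj M) (j : M ⟶ H) (_ : IsMonHom j)
      (_ : IsClosedImmersion j.left) (g : G ⟶ M),
      g ≫ j = f ∧ IsSchemeTheoreticallyDominant g.left ∧ QuasiCompact g.left := by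
  let M : Over (Spec (CommRingCat.of k)) := Over.mk (f.left.imageι ≫ H.hom)
  let j : M ⟶ H := Over.homMk f.left.imageι rfl
  let g : G ⟶ M := Over.homMk f.left.toImage (by
    show f.left.toImage ≫ f.left.imageι ≫ H.hom = _
    rw [f.left.toImage_imageι_assoc, Over.w f])
  have hgj : g ≫ j = f := Over.OverMorphism.ext f.left.toImage_imageι
  have : IsClosedImmersion j.left := inferInstanceAs (IsClosedImmersion f.left.imageι)
  have : Mono j := Over.mono_of_mono_left j
  have : IsSchemeTheoreticallyDominant g.left := GrothLib.Misc6.isSchemeTheoreticallyDominant_toImage f.left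
  have : QuasiCompact (g.left ≫ j.left) := by rw [← Over.comp_left, hgj]; infer_instance
  have : QuasiCompact g.left := QuasiCompact.of_comp g.left j.left
  obtain ⟨hd, hq⟩ := dominant_tensor g g
  obtain ⟨m, hm⟩ := exists_factor (g ⊗ₘ g) ((j ⊗ₘ j) ≫ μ[H]) j (μ[G] ≫ g) (by
    rw [Category.assoc, hgj, IsMonHom.mul_hom, ← Category.assoc, tensorHom_comp_tensorHom, hgj])
  obtain ⟨n, hn⟩ := exists_factor g (j ≫ ι[H]) j (ι[G] ≫ g) (by
    rw [Category.assoc, hgj, GrpObj.inv_hom, ← Category.assoc, hgj])
  let one' : 𝟙_ _ ⟶ M := η[G] ≫ g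
  have ho : one' ≫ j = η[H] := by rw [Category.assoc, hgj, IsMonHom.one_hom]
  have hl : ∀ {W : Over (Spec (CommRingCat.of k))} (a b : W ⟶ M),
      lift a b ≫ m ≫ j = (a ≫ j) * (b ≫ j) := fun a b => by
    rw [hm, ← Category.assoc, lift_map, Hom.mul_def]
  let mon : MonObj M :=
    { one := one'
      mul := m
      one_mul := by
        rw [← cancel_mono j, Category.assoc, hm, ← Category.assoc, ← MonoidalCategory.tensorHom_id,
          tensorHom_comp_tensorHom, ho, Category.id_comp, MonObj.one_mul_hom]
      mul_one := by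
        rw [← cancel_mono j, Category.assoc, hm, ← Category.assoc, ← MonoidalCategory.id_tensorHom,
          tensorHom_comp_tensorHom, ho, Category.id_comp, MonObj.mul_one_hom]
      mul_assoc := by
        rw [← cancel_mono j, Category.assoc, hm, Category.assoc, Category.assoc, hm, ← Category.assoc,
          ← MonoidalCategory.tensorHom_id, tensorHom_comp_tensorHom, hm, ← Category.assoc (M ◁ m),
          ← MonoidalCategory.id_tensorHom, tensorHom_comp_tensorHom, hm, Category.id_comp]
        have tm : ∀ {A B : Over (Spec (CommRingCat.of k))} (a : A ⟶ H) (b : B ⟶ H),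
            (a ⊗ₘ b) ≫ μ[H] = (fst A B ≫ a) * (snd A B ≫ b) := fun a b => by
          rw [Hom.mul_def, ← lift_map, lift_fst_snd, Category.id_comp]
        rw [tm, tm, tm]
        simp only [MonObj.comp_mul, associator_hom_fst_assoc, associator_hom_snd_fst_assoc,
          associator_hom_snd_snd_assoc, _root_.mul_assoc] }
  have hj : IsMonHom j := ⟨ho, hm⟩
  let grp : GrpObj M :=
    { mon with
      inv := n
      left_inv := by
        rw [← cancel_mono j, Category.assoc]
        show lift n (𝟙 M) ≫ m ≫ j = (toUnit M ≫ one') ≫ j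
        rw [hl, Category.id_comp, hn, Category.assoc, ho, ← Hom.inv_def, ← Hom.one_def]
        exact inv_mul_cancel _
      right_inv := by
        rw [← cancel_mono j, Category.assoc]
        show lift (𝟙 M) n ≫ m ≫ j = (toUnit M ≫ one') ≫ j
        rw [hl, Category.id_comp, hn, Category.assoc, ho, ← Hom.inv_def, ← Hom.one_def]
        exact mul_inv_cancel _ }
  exact ⟨M, grp, j, hj, inferInstance, g, hgj, inferInstance, inferInstance⟩

theorem IsAntiAffine.of_dominant {G M : Over (Spec (CommRingCat.of k))} (hG : IsAntiAffine G) (g : G ⟶ M)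
    [IsSchemeTheoreticallyDominant g.left] [QuasiCompact g.left] : IsAntiAffine M := by
  have hinj : Function.Injective g.left.appTop.hom := g.left.app_injective ⊤
  have he : ((Scheme.ΓSpecIso (CommRingCat.of k)).inv ≫ M.hom.appTop) ≫ g.left.appTop =
      (Scheme.ΓSpecIso (CommRingCat.of k)).inv ≫ G.hom.appTop := by
    rw [Category.assoc, ← Scheme.Hom.comp_appTop, Over.w g]
  refine Function.Bijective.of_comp_left ?_ hinj
  unfold IsAntiAffine at hG
  rw [← he] at hG
  exact hG

end GrothLib.AntiAffine
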