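import Groth.Agent.Lib.SchEffective.BaseChangeSections
import Mathlib.AlgebraicGeometry.Morphisms.Separated
import Mathlib.CategoryTheory.Monoidal.Cartesian.Over
import Mathlib.RingTheory.Flat.Basic

/-!
Morphisms out of schemes whose global functions are the constants.
-/

universe u

open CategoryTheory Limits AlgebraicGeometry MonoidalCategory CartesianMonoidalCategory
open scoped TensorProduct

namespace GrothLib.AntiAffine

variable {k : Type u} [Field k]

/-- The global functions are the constants. -/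
def IsAntiAffine (X : Over (Spec (CommRingCat.of k))) : Prop :=
  Function.Bijective ((Scheme.ΓSpecIso (CommRingCat.of k)).inv ≫ X.hom.appTop).hom

theorem IsAntiAffine.isIso {X : Over (Spec (CommRingCat.of k))} (hX : IsAntiAffine X) :
    IsIso X.hom.appTop := by
  have : IsIso ((Scheme.ΓSpecIso (CommRingCat.of k)).inv ≫ X.hom.appTop) :=
    (ConcreteCategory.isIso_iff_bijective _).mpr hX
  exact IsIso.of_isIso_comp_left (Scheme.ΓSpecIso (CommRingCat.of k)).inv _

instance flat_to_field {X : Scheme.{u}} (f : X ⟶ Spec (CommRingCat.of k)) : Flat f := by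
  rw [HasRingHomProperty.iff_appLE (P := @Flat)]
  intro U V e
  have : IsField Γ(Spec (CommRingCat.of k), U.1) ∨ Subsingleton Γ(Spec (CommRingCat.of k), U.1) := by
    by_cases hU : U.1 = ⊤
    · left
      rw [hU]
      exact ((Scheme.ΓSpecIso (CommRingCat.of k)).commRingCatIsoToRingEquiv).toMulEquiv.isField (Field.toIsField k)
    · right
      have : U.1 = ⊥ := by
        ext y
        refine ⟨fun hy => absurd (top_le_iff.mp fun z _ => ?_) hU, fun h => h.elim⟩
        rw [Subsingleton.elim (α := PrimeSpectrum k) z y]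
        exact hy
      rw [this]
      infer_instance
  rcases this with h | h
  · let _ := h.toField
    let _ := (f.appLE U.1 V.1 e).hom.toAlgebra
    exact (inferInstance : Module.Flat Γ(Spec (CommRingCat.of k), U.1) Γ(X, V.1))
  · have := h
    have : Subsingleton Γ(X, V.1) := subsingleton_of_zero_eq_one (by
      rw [← map_zero (f.appLE U.1 V.1 e).hom, Subsingleton.elim (0 : Γ(Spec (CommRingCat.of k), U.1)) 1, map_one])
    let _ := (f.appLE U.1 V.1 e).hom.toAlgebra
    exact (inferInstance : Module.Flat Γ(Spec (CommRingCat.of k), U.1) Γ(X, V.1))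

/-- Functions on `X × T` come from `T` when `X` only has constant functions. -/
theorem isIso_appTop_snd {X T : Over (Spec (CommRingCat.of k))} [QuasiCompact X.hom] [QuasiSeparated X.hom]
    (hX : IsAntiAffine X) [IsAffine T.left] : IsIso (snd X T).left.appTop := by
  have : CompactSpace X.left := QuasiCompact.compactSpace_of_compactSpace X.hom
  have : QuasiSeparatedSpace X.left := quasiSeparatedSpace_of_quasiSeparated X.hom
  have := hX.isIso
  exact (GrothLib.SchEffective.isPushout_appTop T.hom X.hom).isIso_inr_of_isIso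

/-- Morphisms from `X × T` to an affine scheme factor through `T`. -/
theorem eq_snd_comp {X T : Over (Spec (CommRingCat.of k))} [QuasiCompact X.hom] [QuasiSeparated X.hom]
    (hX : IsAntiAffine X) [IsAffine T.left] {U : Scheme.{u}} [IsAffine U] (x₀ : 𝟙_ _ ⟶ X)
    (g : (X ⊗ T).left ⟶ U) :
    g = (snd X T).left ≫ (lift (toUnit T ≫ x₀) (𝟙 T)).left ≫ g := by
  have := isIso_appTop_snd (T := T) hX
  apply ext_of_isAffine
  have hid : (lift (toUnit T ≫ x₀) (𝟙 T)).left.appTop = inv (snd X T).left.appTop := by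
    apply IsIso.eq_inv_of_hom_inv_id
    rw [← Scheme.Hom.comp_appTop, ← Over.comp_left, lift_snd, Over.id_left, Scheme.Hom.id_appTop]
  rw [Scheme.Hom.comp_appTop, Scheme.Hom.comp_appTop, hid, Category.assoc, IsIso.inv_hom_id, Category.comp_id]

/-- The ideal of agreement of two morphisms from an affine scheme to a separated one. -/
theorem exists_agree_ideal {R : CommRingCat.{u}} {Z : Scheme.{u}} [Z.IsSeparated] (a b : Spec R ⟶ Z) :
    ∃ I : Ideal R, ∀ {R' : CommRingCat.{u}} (ψ : R ⟶ R'), Spec.map ψ ≫ a = Spec.map ψ ≫ b ↔ I ≤ RingHom.ker ψ.hom := by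
  let e := equalizer.ι a b
  have : IsAffine (equalizer a b) := isAffine_of_isAffineHom e
  let π : R ⟶ Γ(equalizer a b, ⊤) := (Scheme.ΓSpecIso R).inv ≫ e.appTop
  have hπ : Function.Surjective π.hom := by
    have hs : Function.Surjective e.appTop.hom := (IsClosedImmersion.isAffine_surjective_of_isAffine e).2
    exact hs.comp ((Scheme.ΓSpecIso R).commRingCatIsoToRingEquiv.symm.surjective)
  have he : (equalizer a b).isoSpec.inv ≫ e = Spec.map π := by
    rw [Iso.inv_comp_eq, Spec.map_comp, ← Category.assoc, ← Scheme.isoSpec_Spec_inv,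
      Scheme.isoSpec_hom_naturality, Category.assoc, Iso.hom_inv_id, Category.comp_id]
  refine ⟨RingHom.ker π.hom, fun {R'} ψ => ⟨fun h => ?_, fun h => ?_⟩⟩
  · let l := equalizer.lift (Spec.map ψ) h
    have hl : (l ≫ (equalizer a b).isoSpec.hom) ≫ Spec.map π = Spec.map ψ := by
      rw [Category.assoc, ← he, Iso.hom_inv_id_assoc, equalizer.lift_ι]
    have h2 : π ≫ Spec.preimage (l ≫ (equalizer a b).isoSpec.hom) = ψ := by
      apply Spec.map_injective
      rw [Spec.map_comp, Spec.map_preimage, hl]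
    intro x hx
    rw [RingHom.mem_ker, ← h2, CommRingCat.hom_comp, RingHom.comp_apply, RingHom.mem_ker.mp hx, map_zero]
  · let θ : Γ(equalizer a b, ⊤) ⟶ R' := CommRingCat.ofHom
      (RingHom.liftOfSurjective π.hom hπ ⟨ψ.hom, h⟩)
    have h2 : π ≫ θ = ψ := CommRingCat.hom_ext (RingHom.liftOfRightInverse_comp _ _ _ _)
    rw [← h2, Spec.map_comp, ← he, Category.assoc, Category.assoc, Category.assoc, Category.assoc]
    congr 2
    exact equalizer.condition a b

variable {A B : Type u} [CommRing A] [CommRing B] [Algebra k A] [Algebra k B] {Z : Scheme.{u}} [Z.IsSeparated]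
  {ι : Type u} (C : ι → Type u) [∀ i, CommRing (C i)] [∀ i, Algebra k (C i)] (φ : ∀ i, B →ₐ[k] C i)

/-- The coefficient in `B` of an element of `A ⊗ B` along a basis vector of `A`. -/
noncomputable def coeff (A B : Type u) [CommRing A] [CommRing B] [Algebra k A] [Algebra k B]
    (j : Module.Free.ChooseBasisIndex k A) : A ⊗[k] B →ₗ[k] B :=
  (TensorProduct.lid k B).toLinearMap ∘ₗ ((Module.Free.chooseBasis k A).coord j).rTensor B

theorem coeff_map {C : Type u} [CommRing C] [Algebra k C] (φ : B →ₐ[k] C)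
    (j : Module.Free.ChooseBasisIndex k A) (x : A ⊗[k] B) :
    coeff A C j (Algebra.TensorProduct.map (AlgHom.id k A) φ x) = φ (coeff A B j x) := by
  induction x with
  | zero => simp
  | tmul a b => simp [coeff]
  | add x y hx hy => simp [hx, hy]

theorem eq_zero_of_coeff {C : Type u} [CommRing C] [Algebra k C] (x : A ⊗[k] C)
    (h : ∀ j : Module.Free.ChooseBasisIndex k A, coeff A C j x = 0) : x = 0 := by
  classical
  let e : A ⊗[k] C ≃ₗ[k] Module.Free.ChooseBasisIndex k A →₀ C :=
    (TensorProduct.congr (Module.Free.chooseBasis k A).repr (LinearEquiv.refl k C)).trans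
      (TensorProduct.finsuppScalarLeft k C (Module.Free.ChooseBasisIndex k A))
  have key : ∀ j y, e y j = coeff A C j y := by
    intro j y
    induction y with
    | zero => simp
    | tmul a c => simp [e, coeff]
    | add y z hy hz => simp [hy, hz]
  refine e.injective (Finsupp.ext fun j => ?_)
  rw [key, h, map_zero, Finsupp.zero_apply]

/-- Morphisms from `Spec (A ⊗ B)` to a separated scheme agreeing on all `Spec (A ⊗ C i)` agree. -/
theorem ext_tensor (a b : Spec (CommRingCat.of (A ⊗[k] B)) ⟶ Z)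
    (hinj : ∀ y : B, (∀ i, φ i y = 0) → y = 0)
    (h : ∀ i, Spec.map (CommRingCat.ofHom (Algebra.TensorProduct.map (AlgHom.id k A) (φ i)).toRingHom) ≫ a =
      Spec.map (CommRingCat.ofHom (Algebra.TensorProduct.map (AlgHom.id k A) (φ i)).toRingHom) ≫ b) : a = b := by
  obtain ⟨I, hI⟩ := exists_agree_ideal a b
  have hbot : I ≤ RingHom.ker (𝟙 (CommRingCat.of (A ⊗[k] B)) : _ ⟶ _).hom := by
    intro x hx
    refine eq_zero_of_coeff x fun j => hinj _ fun i => ?_
    rw [← coeff_map, show (Algebra.TensorProduct.map (AlgHom.id k A) (φ i)) x = 0 from (hI _).mp (h i) hx,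
      map_zero]
  simpa using (hI _).mpr hbot

/-- Agreement on all `Spec (A ⊗ C i)` spreads out to a principal open. -/
theorem ext_tensor_nhd [IsNoetherianRing B] (p : Ideal B) [p.IsPrime]
    (a b : Spec (CommRingCat.of (A ⊗[k] B)) ⟶ Z)
    (hinj : ∀ y : B, (∀ i, φ i y = 0) → ∃ s ∉ p, s * y = 0)
    (h : ∀ i, Spec.map (CommRingCat.ofHom (Algebra.TensorProduct.map (AlgHom.id k A) (φ i)).toRingHom) ≫ a =
      Spec.map (CommRingCat.ofHom (Algebra.TensorProduct.map (AlgHom.id k A) (φ i)).toRingHom) ≫ b) :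
    ∃ s ∉ p, ∀ (D : Type u) [CommRing D] [Algebra k D] (ψ : B →ₐ[k] D), IsUnit (ψ s) →
      Spec.map (CommRingCat.ofHom (Algebra.TensorProduct.map (AlgHom.id k A) ψ).toRingHom) ≫ a =
      Spec.map (CommRingCat.ofHom (Algebra.TensorProduct.map (AlgHom.id k A) ψ).toRingHom) ≫ b := by
  classical
  obtain ⟨I, hI⟩ := exists_agree_ideal a b
  let J : Ideal B := Ideal.span {y | ∃ x ∈ I, ∃ j, coeff A B j x = y}
  obtain ⟨gen, hgen⟩ := (inferInstance : IsNoetherian B B).noetherian J
  have hJ : ∀ y ∈ J, ∀ i, φ i y = 0 := by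
    intro y hy i
    have : J ≤ RingHom.ker (φ i).toRingHom := Ideal.span_le.mpr (by
      rintro _ ⟨x, hx, j, rfl⟩
      show φ i (coeff A B j x) = 0
      rw [← coeff_map, show (Algebra.TensorProduct.map (AlgHom.id k A) (φ i)) x = 0 from (hI _).mp (h i) hx,
        map_zero])
    exact this hy
  have hs : ∀ y ∈ gen, ∃ s ∉ p, s * y = 0 := fun y hy =>
    hinj y (hJ y (hgen.le (Submodule.subset_span hy)))
  choose! s hsp hsy using hs
  refine ⟨∏ y ∈ gen, s y, ?_, fun D _ _ ψ hu => (hI _).mpr fun x hx => eq_zero_of_coeff _ fun j => ?_⟩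
  · rw [Ideal.IsPrime.prod_mem_iff]
    rintro ⟨y, hy, hmem⟩
    exact hsp y hy hmem
  have hle : J ≤ RingHom.ker ψ.toRingHom := by
    rw [← hgen]
    refine Submodule.span_le.mpr fun y hy => ?_
    show ψ y = 0
    have : IsUnit (ψ (s y)) := isUnit_of_dvd_unit (map_dvd ψ (Finset.dvd_prod_of_mem s hy)) hu
    refine this.mul_right_eq_zero.mp ?_
    rw [← map_mul, hsy y hy, map_zero]
  show coeff A D j (Algebra.TensorProduct.map (AlgHom.id k A) ψ x) = 0
  rw [coeff_map]
  exact hle (Ideal.subset_span ⟨x, hx, j, rfl⟩)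

end GrothLib.AntiAffine
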