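import Groth.Agent.Lib.AntiAffine.Basic
import Mathlib.AlgebraicGeometry.Noetherian
import Mathlib.AlgebraicGeometry.PullbackCarrier
import Mathlib.RingTheory.Filtration
import Mathlib.RingTheory.Localization.FractionRing

/-!
Rigidity for schemes whose global functions are the constants.
-/

universe u

open CategoryTheory Limits AlgebraicGeometry MonoidalCategory CartesianMonoidalCategory
open scoped TensorProduct

namespace GrothLib.AntiAffine

variable {k : Type u} [Field k]

/-- The affine `k`-scheme of a `k`-algebra. -/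
noncomputable abbrev pt (D : Type u) [CommRing D] [Algebra k D] : Over (Spec (CommRingCat.of k)) :=
  Over.mk (Spec.map (CommRingCat.ofHom (algebraMap k D)))

/-- The morphism of affine schemes of an algebra map. -/
noncomputable def ptMap {B D : Type u} [CommRing B] [CommRing D] [Algebra k B] [Algebra k D]
    (ψ : B →ₐ[k] D) : pt (k := k) D ⟶ pt B :=
  Over.homMk (Spec.map (CommRingCat.ofHom ψ.toRingHom)) (by
    show Spec.map _ ≫ Spec.map _ = Spec.map _
    rw [← Spec.map_comp]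
    congr 1
    ext x
    exact ψ.commutes x)

theorem ptMap_comp {B D E : Type u} [CommRing B] [CommRing D] [CommRing E] [Algebra k B] [Algebra k D]
    [Algebra k E] (ψ : B →ₐ[k] D) (χ : D →ₐ[k] E) : ptMap (χ.comp ψ) = ptMap χ ≫ ptMap ψ := by
  ext1
  show Spec.map _ = Spec.map _ ≫ Spec.map _
  rw [← Spec.map_comp]
  rfl

/-- The structure of a `k`-algebra on the sections over an open. -/
noncomputable def algOf {X : Over (Spec (CommRingCat.of k))} {V : X.left.Opens} (hV : IsAffineOpen V) :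
    Algebra k Γ(X.left, V) :=
  (Spec.preimage (hV.fromSpec ≫ X.hom)).hom.toAlgebra

/-- An affine open as a morphism from an affine scheme. -/
noncomputable def wOf {X : Over (Spec (CommRingCat.of k))} {V : X.left.Opens} (hV : IsAffineOpen V) :
    letI := algOf hV
    pt (k := k) Γ(X.left, V) ⟶ X :=
  letI := algOf hV
  Over.homMk hV.fromSpec (Spec.map_preimage (hV.fromSpec ≫ X.hom)).symm

variable {X Y : Over (Spec (CommRingCat.of k))} {Z : Scheme.{u}}

/-- Two morphisms from `X × Y` agree over a `Y`-scheme. -/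
def Agree (a b : (X ⊗ Y).left ⟶ Z) {T : Over (Spec (CommRingCat.of k))} (t : T ⟶ Y) : Prop :=
  (X ◁ t).left ≫ a = (X ◁ t).left ≫ b

theorem Agree.comp {a b : (X ⊗ Y).left ⟶ Z} {T T' : Over (Spec (CommRingCat.of k))} {t : T ⟶ Y}
    (h : Agree a b t) (u : T' ⟶ T) : Agree a b (u ≫ t) := by
  unfold Agree at h ⊢
  rw [whiskerLeft_comp, Over.comp_left, Category.assoc, Category.assoc, h]

/-- The chart of `X × Spec D` over an affine piece of `X`. -/
noncomputable def chart {A D : Type u} [CommRing A] [CommRing D] [Algebra k A] [Algebra k D]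
    (v : pt (k := k) A ⟶ X) (t : pt (k := k) D ⟶ Y) : Spec (CommRingCat.of (A ⊗[k] D)) ⟶ (X ⊗ Y).left :=
  (pullbackSpecIso k A D).inv ≫ (v ⊗ₘ t).left

theorem map_comp_chart {A B D : Type u} [CommRing A] [CommRing B] [CommRing D] [Algebra k A] [Algebra k B]
    [Algebra k D] (v : pt (k := k) A ⟶ X) (t : pt (k := k) B ⟶ Y) (ψ : B →ₐ[k] D) :
    Spec.map (CommRingCat.ofHom (Algebra.TensorProduct.map (AlgHom.id k A) ψ).toRingHom) ≫ chart v t =
      chart v (ptMap ψ ≫ t) := by
  have key : Spec.map (CommRingCat.ofHom (Algebra.TensorProduct.map (AlgHom.id k A) ψ).toRingHom) ≫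
      (pullbackSpecIso k A B).inv =
      (pullbackSpecIso k A D).inv ≫ (pt (k := k) A ◁ ptMap ψ).left := by
    apply pullback.hom_ext
    · rw [Category.assoc, Category.assoc, pullbackSpecIso_inv_fst]
      erw [Over.whiskerLeft_left_fst]
      erw [pullbackSpecIso_inv_fst]
      rw [← Spec.map_comp]
      congr 1
      ext x
      simp
    · rw [Category.assoc, Category.assoc, pullbackSpecIso_inv_snd]
      erw [Over.whiskerLeft_left_snd]
      erw [pullbackSpecIso_inv_snd_assoc]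
      show Spec.map _ ≫ Spec.map _ = Spec.map _ ≫ Spec.map _
      rw [← Spec.map_comp, ← Spec.map_comp]
      congr 1
  rw [chart, chart, reassoc_of% key, ← Over.comp_left, whiskerLeft_comp_tensorHom]

theorem exists_chart_mem (D : Type u) [CommRing D] [Algebra k D] {I : Type*} (V : I → X.left.Opens)
    (hV : ∀ i, IsAffineOpen (V i)) (hcov : ∀ x : X.left, ∃ i, x ∈ V i) (z : (X ⊗ pt (k := k) D).left) :
    ∃ i, z ∈ Set.range (letI := algOf (hV i); chart (wOf (hV i)) (𝟙 (pt (k := k) D))) := by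
  obtain ⟨i, hi⟩ := hcov ((fst X (pt (k := k) D)).left z)
  letI := algOf (hV i)
  refine ⟨i, ?_⟩
  have hz : z ∈ Set.range (wOf (hV i) ⊗ₘ 𝟙 (pt (k := k) D)).left := by
    rw [Over.tensorHom_left, Scheme.Pullback.range_map]
    refine ⟨?_, ⟨(snd X (pt (k := k) D)).left z, rfl⟩⟩
    show _ ∈ Set.range (hV i).fromSpec
    rw [(hV i).range_fromSpec]
    exact hi
  obtain ⟨z', hz'⟩ := hz
  refine ⟨(pullbackSpecIso k Γ(X.left, V i) D).hom z', ?_⟩
  rw [chart, ← Scheme.Hom.comp_apply, Iso.hom_inv_id_assoc]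
  exact hz'

theorem agree_of_charts {a b : (X ⊗ Y).left ⟶ Z} (D : Type u) [CommRing D] [Algebra k D]
    (t : pt (k := k) D ⟶ Y) {I : Type*} (V : I → X.left.Opens) (hV : ∀ i, IsAffineOpen (V i))
    (hcov : ∀ x : X.left, ∃ i, x ∈ V i)
    (h : ∀ i, letI := algOf (hV i); chart (wOf (hV i)) t ≫ a = chart (wOf (hV i)) t ≫ b) : Agree a b t := by
  let c : ∀ i, letI := algOf (hV i); Spec (CommRingCat.of (Γ(X.left, V i) ⊗[k] D)) ⟶ (X ⊗ pt (k := k) D).left :=
    fun i => letI := algOf (hV i); chart (wOf (hV i)) (𝟙 _)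
  have hoi : ∀ i, IsOpenImmersion (c i) := fun i => by
    letI := algOf (hV i)
    show IsOpenImmersion ((pullbackSpecIso k Γ(X.left, V i) D).inv ≫ _)
    have : IsOpenImmersion (wOf (hV i) ⊗ₘ 𝟙 (pt (k := k) D)).left := by
      rw [Over.tensorHom_left]
      have : IsOpenImmersion (wOf (hV i)).left := inferInstanceAs (IsOpenImmersion (hV i).fromSpec)
      infer_instance
    infer_instance
  have hcov' : TopologicalSpace.IsOpenCover (fun i => (c i).opensRange) := by
    rw [TopologicalSpace.IsOpenCover, eq_top_iff]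
    intro z _
    obtain ⟨i, hi⟩ := exists_chart_mem D V hV hcov z
    exact TopologicalSpace.Opens.mem_iSup.mpr ⟨i, hi⟩
  refine ((X ⊗ pt (k := k) D).left.openCoverOfIsOpenCover _ hcov').hom_ext _ _ fun i => ?_
  show (c i).opensRange.ι ≫ _ = (c i).opensRange.ι ≫ _
  rw [← cancel_epi (c i).isoOpensRange.hom, Scheme.Hom.isoOpensRange_hom_ι_assoc,
    Scheme.Hom.isoOpensRange_hom_ι_assoc]
  letI := algOf (hV i)
  have e : c i ≫ (X ◁ t).left = chart (wOf (hV i)) t := by
    show chart _ _ ≫ _ = chart _ _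
    rw [chart, chart, Category.assoc, ← Over.comp_left, tensorHom_comp_whiskerLeft]
    rw [Category.id_comp]
  rw [reassoc_of% e, reassoc_of% e]
  exact h i

variable [Z.IsSeparated] [QuasiCompact X.hom] {a b : (X ⊗ Y).left ⟶ Z} {B : Type u} [CommRing B] [Algebra k B]
  {ι : Type u} (C : ι → Type u) [∀ i, CommRing (C i)] [∀ i, Algebra k (C i)] (φ : ∀ i, B →ₐ[k] C i)
  (w : pt (k := k) B ⟶ Y)

omit [QuasiCompact X.hom] in
theorem agree_ext (hinj : ∀ y : B, (∀ i, φ i y = 0) → y = 0) (h : ∀ i, Agree a b (ptMap (φ i) ≫ w)) :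
    Agree a b w := by
  refine agree_of_charts B w (fun V : X.left.affineOpens => V.1) (fun V => V.2) (fun x => ?_) fun V => ?_
  · obtain ⟨_, ⟨U, hU, rfl⟩, hxU, -⟩ :=
      X.left.isBasis_affineOpens.exists_subset_of_mem_open (Set.mem_univ x) isOpen_univ
    exact ⟨⟨U, hU⟩, hxU⟩
  letI := algOf V.2
  refine ext_tensor C φ _ _ hinj fun i => ?_
  rw [reassoc_of% map_comp_chart, reassoc_of% map_comp_chart]
  have e : chart (wOf V.2) (ptMap (φ i) ≫ w) = chart (wOf V.2) (𝟙 _) ≫ (X ◁ (ptMap (φ i) ≫ w)).left := by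
    rw [chart, chart, Category.assoc, ← Over.comp_left, tensorHom_comp_whiskerLeft, Category.id_comp]
  rw [e, Category.assoc, Category.assoc, show _ ≫ a = _ ≫ b from h i]

theorem agree_nhd [IsNoetherianRing B] (p : Ideal B) [p.IsPrime]
    (hinj : ∀ y : B, (∀ i, φ i y = 0) → ∃ s ∉ p, s * y = 0) (h : ∀ i, Agree a b (ptMap (φ i) ≫ w)) :
    ∃ s ∉ p, ∀ (D : Type u) [CommRing D] [Algebra k D] (ψ : B →ₐ[k] D), IsUnit (ψ s) →
      Agree a b (ptMap ψ ≫ w) := by
  classical
  have : CompactSpace X.left := QuasiCompact.compactSpace_of_compactSpace X.hom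
  obtain ⟨F, hF⟩ := isCompact_univ.elim_finite_subcover
    (fun V : X.left.affineOpens => (V.1 : Set X.left)) (fun V => V.1.2) (fun x _ => by
      obtain ⟨_, ⟨U, hU, rfl⟩, hxU, -⟩ :=
        X.left.isBasis_affineOpens.exists_subset_of_mem_open (Set.mem_univ x) isOpen_univ
      exact Set.mem_iUnion.mpr ⟨⟨U, hU⟩, hxU⟩)
  have hs : ∀ V : X.left.affineOpens, ∃ s ∉ p, ∀ (D : Type u) [CommRing D] [Algebra k D] (ψ : B →ₐ[k] D),
      IsUnit (ψ s) → (letI := algOf V.2; chart (wOf V.2) (ptMap ψ ≫ w) ≫ a = chart (wOf V.2) (ptMap ψ ≫ w) ≫ b) := by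
    intro V
    letI := algOf V.2
    obtain ⟨s, hs, hsD⟩ := ext_tensor_nhd C φ p (chart (wOf V.2) w ≫ a) (chart (wOf V.2) w ≫ b) hinj fun i => by
      rw [reassoc_of% map_comp_chart, reassoc_of% map_comp_chart]
      have e : chart (wOf V.2) (ptMap (φ i) ≫ w) = chart (wOf V.2) (𝟙 _) ≫ (X ◁ (ptMap (φ i) ≫ w)).left := by
        rw [chart, chart, Category.assoc, ← Over.comp_left, tensorHom_comp_whiskerLeft, Category.id_comp]
      rw [e, Category.assoc, Category.assoc, show _ ≫ a = _ ≫ b from h i]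
    refine ⟨s, hs, fun D _ _ ψ hu => ?_⟩
    have := hsD D ψ hu
    rwa [reassoc_of% map_comp_chart, reassoc_of% map_comp_chart] at this
  choose s hsp hsD using hs
  refine ⟨∏ V ∈ F, s V, ?_, fun D _ _ ψ hu => agree_of_charts D _ (fun V : F => V.1.1) (fun V => V.1.2)
    (fun x => ?_) fun V => ?_⟩
  · rw [Ideal.IsPrime.prod_mem_iff]
    rintro ⟨V, -, hmem⟩
    exact hsp V hmem
  · obtain ⟨V, hV, hx⟩ := Set.mem_iUnion₂.mp (hF (Set.mem_univ x))
    exact ⟨⟨V, hV⟩, hx⟩
  · exact hsD V.1 D ψ (isUnit_of_dvd_unit (map_dvd ψ (Finset.dvd_prod_of_mem s V.2)) hu)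

end GrothLib.AntiAffine
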