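import Groth.Agent.Lib.AntiAffine.Rigidity

/-!
The rigidity lemma for schemes whose global functions are the constants.
-/

universe u

open CategoryTheory Limits AlgebraicGeometry MonoidalCategory CartesianMonoidalCategory

namespace GrothLib.AntiAffine

variable {k : Type u} [Field k] {X Y Z : Over (Spec (CommRingCat.of k))}

/-- The section `Y ⟶ X ⊗ Y` at a point of `X`. -/
noncomputable abbrev slice (x₀ : 𝟙_ (Over (Spec (CommRingCat.of k))) ⟶ X) (Y : Over (Spec (CommRingCat.of k))) :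
    Y ⟶ X ⊗ Y :=
  lift (toUnit Y ≫ x₀) (𝟙 Y)

theorem slice_whisker (x₀ : 𝟙_ (Over (Spec (CommRingCat.of k))) ⟶ X) {T : Over (Spec (CommRingCat.of k))}
    (t : T ⟶ Y) : slice x₀ T ≫ (X ◁ t) = t ≫ slice x₀ Y := by
  ext1 <;> simp [slice]

theorem whiskerLeft_surjective {T T' : Over (Spec (CommRingCat.of k))} (u : T' ⟶ T)
    (hu : Function.Surjective u.left) : Function.Surjective (X ◁ u).left := by
  intro z
  have hz : z ∈ Set.range (X ◁ u).left := by
    rw [← MonoidalCategory.id_tensorHom, Over.tensorHom_left, Scheme.Pullback.range_map]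
    exact ⟨⟨_, rfl⟩, hu _⟩
  exact hz

/-- Agreement passes to one-point affine schemes from covering ones. -/
theorem agree_of_surjective [QuasiCompact X.hom] [QuasiSeparated X.hom] (hX : IsAntiAffine X)
    (x₀ : 𝟙_ (Over (Spec (CommRingCat.of k))) ⟶ X) (f : X ⊗ Y ⟶ Z) {T T' : Over (Spec (CommRingCat.of k))}
    [IsAffine T.left] [Subsingleton T.left] (u : T' ⟶ T) (hu : Function.Surjective u.left) (t : T ⟶ Y)
    (h : Agree f.left (snd X Y ≫ slice x₀ Y ≫ f).left (u ≫ t)) :
    Agree f.left (snd X Y ≫ slice x₀ Y ≫ f).left t := by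
  let a := (X ◁ t ≫ f).left
  let g := (t ≫ slice x₀ Y ≫ f).left
  have hb : (X ◁ t).left ≫ (snd X Y ≫ slice x₀ Y ≫ f).left = (snd X T).left ≫ g := by
    rw [← Over.comp_left, ← Over.comp_left, whiskerLeft_snd_assoc]
  show a = _
  rw [hb]
  rcases isEmpty_or_nonempty T.left with hT | ⟨⟨p⟩⟩
  · have : IsEmpty ↥(X ⊗ T).left := ⟨fun z => hT.false ((snd X T).left z)⟩
    exact (isInitialOfIsEmpty (X := (X ⊗ T).left)).hom_ext _ _
  obtain ⟨U, hU, hgU⟩ : ∃ U : Z.left.Opens, IsAffineOpen U ∧ g p ∈ U := by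
    obtain ⟨_, ⟨U, hU, rfl⟩, hgU, -⟩ :=
      Z.left.isBasis_affineOpens.exists_subset_of_mem_open (Set.mem_univ (g p)) isOpen_univ
    exact ⟨U, hU, hgU⟩
  have : IsAffine U := hU
  have hrange : Set.range a ⊆ Set.range U.ι := by
    rintro _ ⟨z, rfl⟩
    obtain ⟨z', rfl⟩ := whiskerLeft_surjective (X := X) u hu z
    rw [Scheme.Opens.range_ι]
    have h' : (X ◁ u).left ≫ a = (X ◁ u).left ≫ (snd X T).left ≫ g := by
      rw [← hb]
      simp only [a, ← Category.assoc, ← Over.comp_left, ← MonoidalCategory.whiskerLeft_comp]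
      exact h
    rw [← Scheme.Hom.comp_apply, h', Scheme.Hom.comp_apply, Scheme.Hom.comp_apply,
      Subsingleton.elim ((snd X T).left ((X ◁ u).left z')) p]
    exact hgU
  have h3 := eq_snd_comp hX x₀ (IsOpenImmersion.lift U.ι a hrange)
  have h4 := congrArg (· ≫ U.ι) h3
  simp only [Category.assoc, IsOpenImmersion.lift_fac] at h4
  rw [h4]
  congr 1
  show (slice x₀ T).left ≫ (X ◁ t ≫ f).left = g
  rw [← Over.comp_left, ← Category.assoc, slice_whisker, Category.assoc]

/-- **Rigidity.** A morphism `X × Y → Z`, `X` without nonconstant functions and `Y` connected, which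
is constant in `X` over one rational point is constant in `X`. -/
theorem eq_snd_slice [QuasiCompact X.hom] [QuasiSeparated X.hom] (hX : IsAntiAffine X) [IsLocallyNoetherian Y.left]
    [PreconnectedSpace Y.left] [IsSeparated Z.hom] (x₀ : 𝟙_ (Over (Spec (CommRingCat.of k))) ⟶ X)
    (y₀ : 𝟙_ (Over (Spec (CommRingCat.of k))) ⟶ Y) (f : X ⊗ Y ⟶ Z)
    (hf : (X ◁ y₀) ≫ f = toUnit _ ≫ lift x₀ y₀ ≫ f) :
    f = snd X Y ≫ slice x₀ Y ≫ f := by
  classical
  have : Z.left.IsSeparated := ⟨by
    rw [show terminal.from Z.left = Z.hom ≫ terminal.from _ from Subsingleton.elim _ _]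
    infer_instance⟩
  let a := f.left
  let b := (snd X Y ≫ slice x₀ Y ≫ f).left
  let Ω : Set Y.left := {y | ∃ (W : Y.left.Opens) (hW : IsAffineOpen W), y ∈ W ∧
    (letI := algOf hW; Agree a b (wOf hW))}
  have hΩo : IsOpen Ω := by
    rw [isOpen_iff_forall_mem_open]
    rintro y ⟨W, hW, hy, hA⟩
    exact ⟨W, fun z hz => ⟨W, hW, hz, hA⟩, W.2, hy⟩
  -- restriction of agreement along inclusions of affine opens
  have hres : ∀ {W' W : Y.left.Opens} (hW : IsAffineOpen W) (hW' : IsAffineOpen W') (hle : W' ≤ W),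
      (letI := algOf hW; letI := algOf hW'; ∃ ψ : Γ(Y.left, W) →ₐ[k] Γ(Y.left, W'),
        (∀ x, ψ x = Y.left.presheaf.map (homOfLE hle).op x) ∧ ptMap ψ ≫ wOf hW = wOf hW') := by
    intro W' W hW hW' hle
    letI := algOf hW
    letI := algOf hW'
    have hcomm : ∀ c : k, Y.left.presheaf.map (homOfLE hle).op (algebraMap k Γ(Y.left, W) c) =
        algebraMap k Γ(Y.left, W') c := by
      have key : Spec.preimage (hW.fromSpec ≫ Y.hom) ≫ Y.left.presheaf.map (homOfLE hle).op =
          Spec.preimage (hW'.fromSpec ≫ Y.hom) := by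
        apply Spec.map_injective
        rw [Spec.map_comp, Spec.map_preimage, Spec.map_preimage, ← Category.assoc, hW.map_fromSpec hW']
      exact fun c => congr($key c)
    exact ⟨{ (Y.left.presheaf.map (homOfLE hle).op).hom with commutes' := hcomm }, fun x => rfl,
      Over.OverMorphism.ext (hW.map_fromSpec hW' _)⟩
  -- agreement over the residue field gives a neighbourhood
  have hstep : ∀ (W : Y.left.Opens) (hW : IsAffineOpen W) (y : Y.left) (hy : y ∈ W),
      (letI := algOf hW; letI P := (hW.primeIdealOf ⟨y, hy⟩).asIdeal;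
        Agree a b (ptMap ((Ideal.Quotient.mkₐ k (IsLocalRing.maximalIdeal (Localization.AtPrime P) ^ 1)).comp
          (IsScalarTower.toAlgHom k Γ(Y.left, W) (Localization.AtPrime P))) ≫ wOf hW)) → y ∈ Ω := by
    intro W hW y hy h
    letI := algOf hW
    have : IsNoetherianRing Γ(Y.left, W) := IsLocallyNoetherian.component_noetherian ⟨W, hW⟩
    let P := (hW.primeIdealOf ⟨y, hy⟩).asIdeal
    let L := Localization.AtPrime P
    let Q : ULift.{u} ℕ → Type u := fun n => L ⧸ IsLocalRing.maximalIdeal L ^ (n.down + 1)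
    let φ : ∀ n, Γ(Y.left, W) →ₐ[k] Q n := fun n =>
      (Ideal.Quotient.mkₐ k _).comp (IsScalarTower.toAlgHom k Γ(Y.left, W) L)
    have hin : ∀ x : Γ(Y.left, W), (∀ n, φ n x = 0) → ∃ c ∉ P, c * x = 0 := fun x hx => by
      have h0 : algebraMap Γ(Y.left, W) L x = 0 := by
        have hmem : algebraMap Γ(Y.left, W) L x ∈ ⨅ n : ℕ, IsLocalRing.maximalIdeal L ^ n := by
          rw [Submodule.mem_iInf]
          intro n
          rcases n with - | n
          · rw [pow_zero, Ideal.one_eq_top]; exact Submodule.mem_top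
          · exact Ideal.Quotient.eq_zero_iff_mem.mp (hx ⟨n⟩)
        have := IsLocalization.AtPrime.isLocalRing L P
        have hN : IsNoetherianRing L := IsLocalization.isNoetherianRing P.primeCompl L inferInstance
        rw [Ideal.iInf_pow_eq_bot_of_isLocalRing _ (IsLocalRing.maximalIdeal.isMaximal L).ne_top] at hmem
        exact (Submodule.mem_bot _).mp hmem
      obtain ⟨⟨c, hc⟩, hcx⟩ := (IsLocalization.map_eq_zero_iff P.primeCompl L x).mp h0
      exact ⟨c, hc, hcx⟩
    suffices hφ : ∀ n, Agree a b (ptMap (φ n) ≫ wOf hW) by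
      obtain ⟨s, hs, hsD⟩ := agree_nhd Q φ (wOf hW) P (a := a) (b := b) hin hφ
      let W' := Y.left.basicOpen s
      have hyW' : y ∈ W' := by
        have hm : hW.primeIdealOf ⟨y, hy⟩ ∈ hW.fromSpec ⁻¹ᵁ Y.left.basicOpen s := by
          rw [hW.fromSpec_preimage_basicOpen]; exact hs
        have e : hW.fromSpec (hW.primeIdealOf ⟨y, hy⟩) = y := hW.fromSpec_primeIdealOf ⟨y, hy⟩
        show y ∈ Y.left.basicOpen s
        rw [← e]
        exact hm
      letI := algOf (hW.basicOpen s)
      obtain ⟨ψ, hψ, hψw⟩ := hres hW (hW.basicOpen s) (Y.left.basicOpen_le s)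
      refine ⟨W', hW.basicOpen s, hyW', ?_⟩
      rw [← hψw]
      exact hsD _ ψ (by rw [hψ]; exact RingedSpace.isUnit_res_basicOpen _ s)
    intro n
    have : Subsingleton (pt (k := k) (Q n)).left := ⟨fun p q => by
      have key : ∀ p : PrimeSpectrum (Q n), p.asIdeal.comap (Ideal.Quotient.mk _) = IsLocalRing.maximalIdeal L := fun p => by
        refine ((IsLocalRing.maximalIdeal.isMaximal L).eq_of_le (Ideal.comap_isPrime _ _).ne_top fun x hx => ?_).symm
        have hp := (Ideal.comap_isPrime (Ideal.Quotient.mk (IsLocalRing.maximalIdeal L ^ (n.down + 1))) p.asIdeal)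
        refine hp.mem_of_pow_mem (n.down + 1) ?_
        rw [Ideal.mem_comap, Ideal.Quotient.eq_zero_iff_mem.mpr (Ideal.pow_mem_pow hx _)]
        exact Ideal.zero_mem _
      exact PrimeSpectrum.ext (Ideal.comap_injective_of_surjective _ Ideal.Quotient.mk_surjective
        ((key p).trans (key q).symm))⟩
    let π : Q n →ₐ[k] L ⧸ IsLocalRing.maximalIdeal L ^ 1 :=
      Ideal.Quotient.factorₐ k (Ideal.pow_le_pow_right (Nat.le_add_left 1 n.down))
    refine agree_of_surjective hX x₀ f (ptMap π) (fun q => ?_) _ ?_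
    · have : Nonempty (pt (k := k) (L ⧸ IsLocalRing.maximalIdeal L ^ 1)).left := by
        have : Nontrivial (L ⧸ IsLocalRing.maximalIdeal L ^ 1) := Ideal.Quotient.nontrivial_iff.mpr
          (by rw [pow_one]; exact (IsLocalRing.maximalIdeal.isMaximal L).ne_top)
        exact inferInstanceAs (Nonempty (PrimeSpectrum (L ⧸ IsLocalRing.maximalIdeal L ^ 1)))
      obtain ⟨z⟩ := this
      exact ⟨z, Subsingleton.elim _ _⟩
    · have e : ptMap π ≫ ptMap (φ n) ≫ wOf hW = ptMap (π.comp (φ n)) ≫ wOf hW := by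
        rw [ptMap_comp (φ n) π, Category.assoc]
      rw [e]
      exact h
  -- the agreement set contains the rational point
  have hy₀ : Agree a b y₀ := by
    show (X ◁ y₀).left ≫ f.left = (X ◁ y₀).left ≫ (snd X Y ≫ slice x₀ Y ≫ f).left
    rw [← Over.comp_left, ← Over.comp_left, hf]
    congr 1
    rw [whiskerLeft_snd_assoc, Subsingleton.elim (snd X (𝟙_ _)) (toUnit _)]
    congr 1
    rw [← Category.assoc]
    congr 1
    ext1 <;> simp [slice, Subsingleton.elim (y₀ ≫ toUnit Y) (𝟙 _)]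
  have hΩne : Ω.Nonempty := by
    let c : Spec (CommRingCat.of k) := IsLocalRing.closedPoint k
    let y := y₀.left c
    obtain ⟨W, hW, hy⟩ : ∃ W : Y.left.Opens, IsAffineOpen W ∧ y ∈ W := by
      obtain ⟨_, ⟨W, hW, rfl⟩, hy, -⟩ :=
        Y.left.isBasis_affineOpens.exists_subset_of_mem_open (Set.mem_univ y) isOpen_univ
      exact ⟨W, hW, hy⟩
    refine ⟨y, hstep W hW y hy ?_⟩
    letI := algOf hW
    let P := (hW.primeIdealOf ⟨y, hy⟩).asIdeal
    let L := Localization.AtPrime P
    let u := IsOpenImmersion.lift hW.fromSpec y₀.left (by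
      rintro _ ⟨z, rfl⟩
      rw [hW.range_fromSpec, Subsingleton.elim (α := PrimeSpectrum k) z c]
      exact hy)
    let χ := Spec.preimage u
    have hχ : Spec.map χ ≫ hW.fromSpec = y₀.left := by
      rw [Spec.map_preimage, IsOpenImmersion.lift_fac]
    have hχk : ∀ r : k, χ (algebraMap k Γ(Y.left, W) r) = r := by
      have key : Spec.preimage (hW.fromSpec ≫ Y.hom) ≫ χ = 𝟙 (CommRingCat.of k) := by
        apply Spec.map_injective
        rw [Spec.map_comp, Spec.map_preimage (f := hW.fromSpec ≫ Y.hom), Spec.map_id, ← Category.assoc, hχ]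
        exact Over.w y₀
      exact fun r => congr($key r)
    have hker : RingHom.ker χ.hom = P := by
      have hc : Spec.map χ c = hW.primeIdealOf ⟨y, hy⟩ := by
        apply hW.fromSpec.isOpenEmbedding.injective
        rw [← Scheme.Hom.comp_apply, hχ, hW.fromSpec_primeIdealOf]
      show RingHom.ker χ.hom = (hW.primeIdealOf ⟨y, hy⟩).asIdeal
      rw [← hc]
      show RingHom.ker χ.hom = Ideal.comap χ.hom (IsLocalRing.maximalIdeal k)
      rw [IsLocalRing.maximalIdeal_eq_bot, RingHom.ker]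
    let ψ : Γ(Y.left, W) →ₐ[k] L ⧸ IsLocalRing.maximalIdeal L ^ 1 :=
      (Ideal.Quotient.mkₐ k _).comp (IsScalarTower.toAlgHom k Γ(Y.left, W) L)
    have hψ : ∀ x, ψ x = algebraMap k _ (χ x) := fun x => by
      have hd : x - algebraMap k Γ(Y.left, W) (χ x) ∈ P := by
        rw [← hker, RingHom.mem_ker, map_sub, sub_eq_zero]
        exact (hχk _).symm
      have h1 : ψ (x - algebraMap k Γ(Y.left, W) (χ x)) = 0 := by
        refine Ideal.Quotient.eq_zero_iff_mem.mpr ?_
        rw [pow_one]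
        exact (IsLocalization.AtPrime.to_map_mem_maximal_iff L P _).mpr hd
      rw [map_sub, AlgHom.commutes, sub_eq_zero] at h1
      exact h1
    have : ptMap ψ ≫ wOf hW = toUnit _ ≫ y₀ := by
      ext1
      show Spec.map (CommRingCat.ofHom ψ.toRingHom) ≫ hW.fromSpec = Spec.map (CommRingCat.ofHom (algebraMap k _)) ≫ y₀.left
      rw [← hχ, ← Category.assoc, ← Spec.map_comp]
      congr 2
      ext x
      exact hψ x
    show Agree a b (ptMap ψ ≫ wOf hW)
    rw [this]
    exact hy₀.comp _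
  -- closedness
  have hΩc : IsClosed Ω := isClosed_of_closure_subset fun y hy => by
    obtain ⟨W, hW, hyW⟩ : ∃ W : Y.left.Opens, IsAffineOpen W ∧ y ∈ W := by
      obtain ⟨_, ⟨W, hW, rfl⟩, hy, -⟩ :=
        Y.left.isBasis_affineOpens.exists_subset_of_mem_open (Set.mem_univ y) isOpen_univ
      exact ⟨W, hW, hy⟩
    letI := algOf hW
    have : IsNoetherianRing Γ(Y.left, W) := IsLocallyNoetherian.component_noetherian ⟨W, hW⟩
    let B := Γ(Y.left, W)
    let pY : PrimeSpectrum B := hW.primeIdealOf ⟨y, hyW⟩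
    have hpY : pY ∈ closure (hW.fromSpec ⁻¹' Ω) := by
      rw [← hW.fromSpec.isOpenEmbedding.isOpenMap.preimage_closure_eq_closure_preimage hW.fromSpec.continuous]
      show hW.fromSpec pY ∈ closure Ω
      rw [hW.fromSpec_primeIdealOf]
      exact hy
    obtain ⟨q, hqP, hqΩ⟩ : ∃ q : PrimeSpectrum B, q.asIdeal ≤ pY.asIdeal ∧ hW.fromSpec q ∈ Ω := by
      let T : Set (PrimeSpectrum B) := {q | q.asIdeal ∈ minimalPrimes B ∧ hW.fromSpec q ∈ Ω}
      have hT : T.Finite := ((minimalPrimes.finite_of_isNoetherianRing B).preimage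
        (fun _ _ _ _ => PrimeSpectrum.ext)).subset fun q hq => hq.1
      have hcl : IsClosed (⋃ q ∈ T, closure ({q} : Set (PrimeSpectrum B))) :=
        hT.isClosed_biUnion fun q _ => isClosed_closure
      have hsub : hW.fromSpec ⁻¹' Ω ⊆ ⋃ q ∈ T, closure ({q} : Set (PrimeSpectrum B)) := fun r hr => by
        obtain ⟨m, hm, hmr⟩ := Ideal.exists_minimalPrimes_le (J := r.asIdeal) (I := (⊥ : Ideal B)) bot_le
        let q : PrimeSpectrum B := ⟨m, hm.1.1⟩
        have hqr : q ⤳ r := (PrimeSpectrum.le_iff_specializes q r).mp hmr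
        exact Set.mem_iUnion₂.mpr ⟨q, ⟨hm, (hqr.map hW.fromSpec.continuous).mem_open hΩo hr⟩,
          specializes_iff_mem_closure.mp hqr⟩
      obtain ⟨q, hq, hqp⟩ := Set.mem_iUnion₂.mp (hcl.closure_subset_iff.mpr hsub hpY)
      exact ⟨q, (PrimeSpectrum.le_iff_specializes q pY).mpr (specializes_iff_mem_closure.mpr hqp), hq.2⟩
    obtain ⟨W'', hW'', hqW'', hA⟩ := hqΩ
    obtain ⟨g, hgle, hqg⟩ := hW.exists_basicOpen_le ⟨hW.fromSpec q, hqW''⟩
      (show hW.fromSpec q ∈ W by rw [← SetLike.mem_coe, ← hW.range_fromSpec]; exact ⟨q, rfl⟩)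
    letI := algOf (hW.basicOpen g)
    letI := algOf hW''
    obtain ⟨ρ, -, hρw⟩ := hres hW'' (hW.basicOpen g) hgle
    have hAg : Agree a b (wOf (hW.basicOpen g)) := hρw ▸ hA.comp (ptMap ρ)
    obtain ⟨ψ, hψ, hψw⟩ := hres hW (hW.basicOpen g) (Y.left.basicOpen_le g)
    have hgq : g ∉ q.asIdeal := by
      have : q ∈ hW.fromSpec ⁻¹ᵁ Y.left.basicOpen g := hqg
      rw [hW.fromSpec_preimage_basicOpen] at this
      exact this
    let K := FractionRing (B ⧸ q.asIdeal)
    let κ : B →ₐ[k] B ⧸ q.asIdeal := Ideal.Quotient.mkₐ k q.asIdeal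
    let φ : B ⧸ q.asIdeal →ₐ[k] K := IsScalarTower.toAlgHom k _ K
    have hφinj : Function.Injective φ := IsFractionRing.injective (B ⧸ q.asIdeal) K
    have := hW.isLocalization_basicOpen g
    let θ₀ : Γ(Y.left, Y.left.basicOpen g) →+* K := IsLocalization.Away.lift g (g := (φ.comp κ).toRingHom) (by
      refine IsUnit.mk0 _ ?_
      show φ (κ g) ≠ 0
      rw [map_ne_zero_iff _ hφinj]
      exact fun h => hgq (Ideal.Quotient.eq_zero_iff_mem.mp h))
    have hθ : ∀ x, θ₀ (ψ x) = φ (κ x) := fun x => by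
      rw [hψ]
      exact IsLocalization.Away.lift_eq g _ x
    have hθc : ∀ r : k, θ₀ (algebraMap k _ r) = algebraMap k K r := fun r => by
      rw [← ψ.commutes r, hθ, AlgHom.commutes, AlgHom.commutes]
    let θ : Γ(Y.left, Y.left.basicOpen g) →ₐ[k] K := { θ₀ with commutes' := hθc }
    have hK : Agree a b (ptMap φ ≫ ptMap κ ≫ wOf hW) := by
      have e : ptMap φ ≫ ptMap κ ≫ wOf hW = ptMap θ ≫ wOf (hW.basicOpen g) := by
        rw [← hψw, ← Category.assoc, ← Category.assoc, ← ptMap_comp, ← ptMap_comp]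
        congr 2
        exact AlgHom.ext fun x => (hθ x).symm
      rw [e]
      exact hAg.comp _
    have hdom : Agree a b (ptMap κ ≫ wOf hW) :=
      agree_ext (ι := PUnit.{u + 1}) (fun _ => K) (fun _ => φ) (ptMap κ ≫ wOf hW)
        (fun x hx => hφinj ((hx PUnit.unit).trans (map_zero φ).symm)) (fun _ => hK)
    refine hstep W hW y hyW ?_
    let L := Localization.AtPrime pY.asIdeal
    let ν : B →ₐ[k] L ⧸ IsLocalRing.maximalIdeal L ^ 1 :=
      (Ideal.Quotient.mkₐ k _).comp (IsScalarTower.toAlgHom k B L)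
    let μ : B ⧸ q.asIdeal →ₐ[k] L ⧸ IsLocalRing.maximalIdeal L ^ 1 :=
      Ideal.Quotient.liftₐ q.asIdeal ν fun x hx => by
        refine Ideal.Quotient.eq_zero_iff_mem.mpr ?_
        rw [pow_one]
        exact (IsLocalization.AtPrime.to_map_mem_maximal_iff L pY.asIdeal _).mpr (hqP hx)
    have e2 : ν = μ.comp κ := AlgHom.ext fun x => rfl
    show Agree a b (ptMap ν ≫ wOf hW)
    rw [e2, ptMap_comp, Category.assoc]
    exact hdom.comp _
  have huniv : Ω = Set.univ := IsClopen.eq_univ ⟨hΩc, hΩo⟩ hΩne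
  choose W hW hyW hA using fun y : Y.left => (huniv.symm ▸ Set.mem_univ y : y ∈ Ω)
  let V : Y.left → (X ⊗ Y).left.Opens := fun y => (snd X Y).left ⁻¹ᵁ W y
  have hV : TopologicalSpace.IsOpenCover V := by
    rw [TopologicalSpace.IsOpenCover, eq_top_iff]
    exact fun z _ => TopologicalSpace.Opens.mem_iSup.mpr ⟨(snd X Y).left z, hyW _⟩
  ext1
  refine ((X ⊗ Y).left.openCoverOfIsOpenCover V hV).hom_ext _ _ fun y => ?_
  show (V y).ι ≫ a = (V y).ι ≫ b
  letI := algOf (hW y)
  let m := (X ◁ wOf (hW y)).left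
  have : IsOpenImmersion m := by
    show IsOpenImmersion (X ◁ wOf (hW y)).left
    rw [← MonoidalCategory.id_tensorHom, Over.tensorHom_left]
    have : IsOpenImmersion (wOf (hW y)).left := inferInstanceAs (IsOpenImmersion (hW y).fromSpec)
    infer_instance
  have hr : Set.range (V y).ι ⊆ Set.range m := by
    rintro _ ⟨z, rfl⟩
    show _ ∈ Set.range (X ◁ wOf (hW y)).left
    rw [← MonoidalCategory.id_tensorHom, Over.tensorHom_left, Scheme.Pullback.range_map]
    refine ⟨⟨_, rfl⟩, ?_⟩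
    show _ ∈ Set.range (hW y).fromSpec
    rw [(hW y).range_fromSpec]
    exact z.2
  rw [← IsOpenImmersion.lift_fac m (V y).ι hr, Category.assoc, Category.assoc]
  exact congrArg (IsOpenImmersion.lift m (V y).ι hr ≫ ·) (hA y)

end GrothLib.AntiAffine
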